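import Mathlib

/-!
Extending morphisms to a scheme from the preimage of a subscheme of the base: uniqueness and
existence are local on the source.
-/

set_option autoImplicit false
set_option linter.style.haveILetI false
set_option linter.unusedSimpArgs false
set_option backward.isDefEq.respectTransparency false
set_option backward.isDefEq.respectTransparency.types false

universe u

open CategoryTheory CategoryTheory.Limits AlgebraicGeometry

namespace Groth.Agent.NeronSpread

variable {S T U' N : Scheme.{u}} (b : T ⟶ S) (j : U' ⟶ T) (n : N ⟶ S)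

/-- Two morphisms agreeing over `U'` are equal. -/
def Uniq {Y : Scheme.{u}} (p : Y ⟶ T) : Prop :=
  ∀ g₁ g₂ : Y ⟶ N, g₁ ≫ n = p ≫ b → g₂ ≫ n = p ≫ b →
    pullback.fst p j ≫ g₁ = pullback.fst p j ≫ g₂ → g₁ = g₂

/-- Morphisms over `U'` extend. -/
def Extn {Y : Scheme.{u}} (p : Y ⟶ T) : Prop :=
  ∀ m : pullback p j ⟶ N, m ≫ n = pullback.fst p j ≫ p ≫ b →
    ∃ g : Y ⟶ N, g ≫ n = p ≫ b ∧ pullback.fst p j ≫ g = m

/-- The comparison of the preimages. -/
noncomputable def restr {Y W : Scheme.{u}} (ι : W ⟶ Y) (p : Y ⟶ T) : pullback (ι ≫ p) j ⟶ pullback p j :=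
  pullback.lift (pullback.fst _ _ ≫ ι) (pullback.snd _ _) (by rw [Category.assoc, pullback.condition])

@[reassoc (attr := simp)]
theorem restr_fst {Y W : Scheme.{u}} (ι : W ⟶ Y) (p : Y ⟶ T) :
    restr j ι p ≫ pullback.fst p j = pullback.fst (ι ≫ p) j ≫ ι := pullback.lift_fst _ _ _

@[reassoc (attr := simp)]
theorem restr_snd {Y W : Scheme.{u}} (ι : W ⟶ Y) (p : Y ⟶ T) :
    restr j ι p ≫ pullback.snd p j = pullback.snd (ι ≫ p) j := pullback.lift_snd _ _ _

theorem uniq_of_affine (hA : ∀ (W : Scheme.{u}) [IsAffine W] (q : W ⟶ T), Smooth q → Uniq b j n q)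
    {Y : Scheme.{u}} (p : Y ⟶ T) [Smooth p] : Uniq b j n p := by
  intro g₁ g₂ h₁ h₂ h
  refine Y.affineCover.hom_ext _ _ fun i => ?_
  refine hA _ (Y.affineCover.f i ≫ p) inferInstance _ _ ?_ ?_ ?_
  · rw [Category.assoc, h₁, Category.assoc]
  · rw [Category.assoc, h₂, Category.assoc]
  · rw [← restr_fst_assoc, ← restr_fst_assoc, h]

theorem extn_of_affine (hU : ∀ (W : Scheme.{u}) [IsAffine W] (q : W ⟶ T), Smooth q → Uniq b j n q)
    (hA : ∀ (W : Scheme.{u}) [IsAffine W] (q : W ⟶ T), Smooth q → Extn b j n q)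
    {Y : Scheme.{u}} (p : Y ⟶ T) [Smooth p] : Extn b j n p := by
  intro m hm
  let 𝒰 := Y.affineCover
  have h : ∀ i, ∃ g : 𝒰.X i ⟶ N, g ≫ n = (𝒰.f i ≫ p) ≫ b ∧
      pullback.fst (𝒰.f i ≫ p) j ≫ g = restr j (𝒰.f i) p ≫ m := fun i => by
    refine hA _ (𝒰.f i ≫ p) inferInstance _ ?_
    rw [Category.assoc, hm, restr_fst_assoc, Category.assoc]
  choose g hg hgm using h
  have hglue : ∀ x y, pullback.fst (𝒰.f x) (𝒰.f y) ≫ g x = pullback.snd _ _ ≫ g y := by
    intro x y
    refine uniq_of_affine b j n hU ((pullback.fst (𝒰.f x) (𝒰.f y) ≫ 𝒰.f x) ≫ p) _ _ ?_ ?_ ?_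
    · rw [Category.assoc, hg]; simp only [Category.assoc]
    · rw [Category.assoc, hg, pullback.condition]; simp only [Category.assoc]
    · let q := (pullback.fst (𝒰.f x) (𝒰.f y) ≫ 𝒰.f x) ≫ p
      let lx : pullback q j ⟶ pullback (𝒰.f x ≫ p) j :=
        pullback.lift (pullback.fst q j ≫ pullback.fst _ _) (pullback.snd q j)
          (by rw [← pullback.condition]; simp [q])
      let ly : pullback q j ⟶ pullback (𝒰.f y ≫ p) j :=
        pullback.lift (pullback.fst q j ≫ pullback.snd _ _) (pullback.snd q j)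
          (by rw [← pullback.condition]; simp [q, pullback.condition_assoc])
      have h1 : pullback.fst q j ≫ pullback.fst _ _ ≫ g x = lx ≫ restr j (𝒰.f x) p ≫ m := by
        rw [← hgm, pullback.lift_fst_assoc, Category.assoc]
      have h2 : pullback.fst q j ≫ pullback.snd _ _ ≫ g y = ly ≫ restr j (𝒰.f y) p ≫ m := by
        rw [← hgm, pullback.lift_fst_assoc, Category.assoc]
      have h3 : lx ≫ restr j (𝒰.f x) p = ly ≫ restr j (𝒰.f y) p := by
        apply pullback.hom_ext <;> simp [lx, ly, pullback.condition]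
      change pullback.fst q j ≫ pullback.fst _ _ ≫ g x = pullback.fst q j ≫ pullback.snd _ _ ≫ g y
      rw [h1, h2, reassoc_of% h3]
  refine ⟨𝒰.glueMorphisms g hglue, 𝒰.hom_ext _ _ fun i => ?_, ?_⟩
  · rw [𝒰.ι_glueMorphisms_assoc, hg, Category.assoc]
  · refine Scheme.Cover.hom_ext (𝒰.pullback₁ (pullback.fst p j)) _ _ fun i => ?_
    change pullback.fst (pullback.fst p j) (𝒰.f i) ≫ pullback.fst p j ≫ 𝒰.glueMorphisms g hglue =
      pullback.fst (pullback.fst p j) (𝒰.f i) ≫ m
    let l : pullback (pullback.fst p j) (𝒰.f i) ⟶ pullback (𝒰.f i ≫ p) j :=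
      pullback.lift (pullback.snd _ _) (pullback.fst _ _ ≫ pullback.snd p j)
        (by rw [← pullback.condition_assoc, Category.assoc, pullback.condition])
    have hl : l ≫ restr j (𝒰.f i) p = pullback.fst (pullback.fst p j) (𝒰.f i) := by
      apply pullback.hom_ext <;> simp [l, pullback.condition]
    rw [pullback.condition_assoc, 𝒰.ι_glueMorphisms, ← reassoc_of% hl, ← hgm, pullback.lift_fst_assoc]

/-- Bijectivity of the restriction along `U'` of morphisms to a base change. -/
theorem bijective_iff (Y : Over T) (N₀ : Over S) :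
    Function.Bijective (fun g : Y ⟶ (Over.pullback b).obj N₀ => (Over.pullback j).map g) ↔
      Uniq b j N₀.hom Y.hom ∧ Extn b j N₀.hom Y.hom := by
  constructor
  · rintro ⟨hi, hs⟩
    constructor
    · intro g₁ g₂ h₁ h₂ h
      let G₁ : Y ⟶ (Over.pullback b).obj N₀ := Over.homMk (pullback.lift g₁ Y.hom h₁) (pullback.lift_snd _ _ _)
      let G₂ : Y ⟶ (Over.pullback b).obj N₀ := Over.homMk (pullback.lift g₂ Y.hom h₂) (pullback.lift_snd _ _ _)
      have hG : G₁ = G₂ := hi (Over.OverMorphism.ext (by
        apply pullback.hom_ext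
        · apply pullback.hom_ext
          · simpa [G₁, G₂] using h
          · simp [G₁, G₂]
        · simp))
      simpa [G₁, G₂] using congrArg (fun G => G.left ≫ pullback.fst N₀.hom b) hG
    · intro m hm
      let M : (Over.pullback j).obj Y ⟶ (Over.pullback j).obj ((Over.pullback b).obj N₀) :=
        Over.homMk (pullback.lift (pullback.lift m (pullback.fst Y.hom j ≫ Y.hom)
          (by rw [hm, Category.assoc])) (pullback.snd Y.hom j) (by simp [pullback.condition]))
          (pullback.lift_snd _ _ _)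
      obtain ⟨G, hG⟩ := hs M
      refine ⟨G.left ≫ pullback.fst N₀.hom b, ?_, ?_⟩
      · rw [Category.assoc, pullback.condition, ← Category.assoc]
        exact congrArg (· ≫ b) (Over.w G)
      · simpa [M] using congrArg (fun G' => G'.left ≫ pullback.fst _ j ≫ pullback.fst N₀.hom b) hG
  · rintro ⟨hu, he⟩
    have hw : ∀ G : Y ⟶ (Over.pullback b).obj N₀, (G.left ≫ pullback.fst N₀.hom b) ≫ N₀.hom = Y.hom ≫ b := fun G => by
      rw [Category.assoc, pullback.condition, ← Category.assoc]
      exact congrArg (· ≫ b) (Over.w G)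
    constructor
    · intro G₁ G₂ h
      apply Over.OverMorphism.ext
      apply pullback.hom_ext
      · refine hu _ _ (hw G₁) (hw G₂) ?_
        simpa using congrArg (fun G' => G'.left ≫ pullback.fst _ j ≫ pullback.fst N₀.hom b) h
      · exact (Over.w G₁).trans (Over.w G₂).symm
    · intro M
      have hM : M.left ≫ pullback.snd (pullback.snd N₀.hom b) j = pullback.snd Y.hom j := Over.w M
      have hsnd : M.left ≫ pullback.fst (pullback.snd N₀.hom b) j ≫ pullback.snd N₀.hom b =
          pullback.fst Y.hom j ≫ Y.hom := by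
        rw [pullback.condition, reassoc_of% hM, pullback.condition]
      obtain ⟨g, hg, hgm⟩ := he (M.left ≫ pullback.fst (pullback.snd N₀.hom b) j ≫ pullback.fst N₀.hom b) (by
        rw [Category.assoc, Category.assoc, pullback.condition, reassoc_of% hsnd])
      refine ⟨Over.homMk (pullback.lift g Y.hom hg) (pullback.lift_snd _ _ _), Over.OverMorphism.ext ?_⟩
      apply pullback.hom_ext
      · apply pullback.hom_ext
        · simpa using hgm
        · simpa using hsnd.symm
      · simpa using hM.symm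

/-- Bijectivity of the restriction along `U'`. -/
theorem bijective_iff_id (Y N₀ : Over T) :
    Function.Bijective (fun g : Y ⟶ N₀ => (Over.pullback j).map g) ↔
      Uniq (𝟙 T) j N₀.hom Y.hom ∧ Extn (𝟙 T) j N₀.hom Y.hom := by
  constructor
  · rintro ⟨hi, hs⟩
    constructor
    · intro g₁ g₂ h₁ h₂ h
      rw [Category.comp_id] at h₁ h₂
      let G₁ : Y ⟶ N₀ := Over.homMk g₁ h₁
      let G₂ : Y ⟶ N₀ := Over.homMk g₂ h₂
      have hG : G₁ = G₂ := hi (Over.OverMorphism.ext (by
        apply pullback.hom_ext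
        · simpa [G₁, G₂] using h
        · simp))
      exact congrArg CommaMorphism.left hG
    · intro m hm
      rw [Category.comp_id] at hm
      let M : (Over.pullback j).obj Y ⟶ (Over.pullback j).obj N₀ :=
        Over.homMk (pullback.lift m (pullback.snd Y.hom j) (by rw [hm, pullback.condition])) (pullback.lift_snd _ _ _)
      obtain ⟨G, hG⟩ := hs M
      refine ⟨G.left, by rw [Category.comp_id]; exact Over.w G, ?_⟩
      simpa [M] using congrArg (fun G' => G'.left ≫ pullback.fst _ j) hG
  · rintro ⟨hu, he⟩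
    constructor
    · intro G₁ G₂ h
      apply Over.OverMorphism.ext
      refine hu _ _ (by rw [Category.comp_id]; exact Over.w G₁) (by rw [Category.comp_id]; exact Over.w G₂) ?_
      simpa using congrArg (fun G' => G'.left ≫ pullback.fst _ j) h
    · intro M
      have hM : M.left ≫ pullback.snd N₀.hom j = pullback.snd Y.hom j := Over.w M
      obtain ⟨g, hg, hgm⟩ := he (M.left ≫ pullback.fst N₀.hom j) (by
        rw [Category.comp_id, Category.assoc, pullback.condition, reassoc_of% hM, pullback.condition])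
      rw [Category.comp_id] at hg
      refine ⟨Over.homMk g hg, Over.OverMorphism.ext ?_⟩
      apply pullback.hom_ext
      · simpa using hgm
      · simpa using hM.symm

end Groth.Agent.NeronSpread
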