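import Mathlib

/-!
An affine smooth scheme over `Spec O_{S,s}` is the base change of a smooth scheme over an affine
neighbourhood of `s`.
-/

set_option autoImplicit false
set_option linter.style.haveILetI false
set_option linter.unusedSimpArgs false

universe u

open CategoryTheory CategoryTheory.Limits AlgebraicGeometry TensorProduct

namespace Groth.Agent.NeronSpread

/-- A smooth algebra over a localisation of a Noetherian ring at a prime comes from a smooth algebra
over a principal localisation. -/
theorem exists_smooth_away {A L B : Type u} [CommRing A] [IsNoetherianRing A] [CommRing L] [Algebra A L]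
    (M : Submonoid A) [IsLocalization M L] [CommRing B] [Algebra L B] [Algebra.Smooth L B] :
    ∃ g ∈ M, ∃ (_ : Algebra (Localization.Away g) L) (_ : IsScalarTower A (Localization.Away g) L)
      (C : Type u) (_ : CommRing C) (_ : Algebra (Localization.Away g) C) (_ : Algebra C B)
      (_ : Algebra (Localization.Away g) B) (_ : IsScalarTower (Localization.Away g) L B)
      (_ : IsScalarTower (Localization.Away g) C B),
      Algebra.Smooth (Localization.Away g) C ∧ Algebra.IsPushout (Localization.Away g) L C B := by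
  classical
  obtain ⟨A₀, B₀, _, _, ⟨G, hG⟩, hsm, ⟨e⟩⟩ := Algebra.Smooth.exists_subalgebra_fg (R := A) (A := L) (B := B)
  obtain ⟨K, hK⟩ := (IsNoetherian.noetherian (RingHom.ker (algebraMap A L)) : (RingHom.ker (algebraMap A L)).FG)
  have hkill : ∀ a ∈ K, ∃ m : M, (m : A) * a = 0 := fun a ha =>
    (IsLocalization.map_eq_zero_iff M L a).mp (show a ∈ RingHom.ker (algebraMap A L) from hK ▸ Ideal.subset_span ha)
  choose! m hm using hkill
  have hfrac : ∀ z : L, ∃ d : M, ∃ a : A, z * algebraMap A L d = algebraMap A L a := fun z => by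
    obtain ⟨⟨a, d⟩, h⟩ := IsLocalization.surj M z
    exact ⟨d, a, h⟩
  choose d num hnum using hfrac
  let g : A := (∏ a ∈ K, (m a : A)) * ∏ z ∈ G, (d z : A)
  have hg : g ∈ M := M.mul_mem (prod_mem fun a _ => (m a).2) (prod_mem fun z _ => (d z).2)
  have hgK : ∀ a, algebraMap A L a = 0 → g * a = 0 := fun a ha => by
    have h1 : a ∈ Submodule.span A (K : Set A) := hK.symm ▸ (show a ∈ RingHom.ker (algebraMap A L) from ha)
    induction h1 using Submodule.span_induction with
    | mem a ha' =>
      simp only [g]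
      rw [← Finset.prod_erase_mul K (fun a => (m a : A)) ha', mul_comm ((∏ x ∈ K.erase a, (m x : A)) * _),
        mul_assoc, mul_assoc, hm a ha', mul_zero, mul_zero]
    | zero => rw [mul_zero]
    | add x y hx hy hx' hy' =>
      rw [mul_add, hx' (show x ∈ RingHom.ker (algebraMap A L) from hK ▸ hx),
        hy' (show y ∈ RingHom.ker (algebraMap A L) from hK ▸ hy), add_zero]
    | smul r x hx hx' =>
      rw [smul_eq_mul, mul_left_comm, hx' (show x ∈ RingHom.ker (algebraMap A L) from hK ▸ hx), mul_zero]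
  let R := Localization.Away g
  let lam : R →ₐ[A] L := IsLocalization.liftAlgHom (M := Submonoid.powers g) (f := Algebra.ofId A L) fun w =>
    IsLocalization.map_units L (⟨w, Submonoid.powers_le.mpr hg w.2⟩ : M)
  have hinj : Function.Injective lam := by
    rw [injective_iff_map_eq_zero]
    intro z hz
    obtain ⟨⟨a, w⟩, h⟩ := IsLocalization.surj (Submonoid.powers g) z
    have h1 : algebraMap A L a = 0 := by
      rw [← AlgHom.commutes lam a, ← h, map_mul, hz, zero_mul]
    have h2 : algebraMap A R a = 0 :=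
      (IsLocalization.map_eq_zero_iff (Submonoid.powers g) R a).mpr ⟨⟨g, Submonoid.mem_powers g⟩, hgK a h1⟩
    rw [h2] at h
    exact (IsLocalization.map_units R w).mul_left_eq_zero.mp h
  have hrange : A₀ ≤ lam.range := by
    rw [← hG]
    refine Algebra.adjoin_le fun z hz => ?_
    refine ⟨algebraMap A R (num z * ((∏ a ∈ K, (m a : A)) * ∏ x ∈ G.erase z, (d x : A))) * IsLocalization.Away.invSelf g, ?_⟩
    have hu : IsUnit (algebraMap A L g) := IsLocalization.map_units L (⟨g, hg⟩ : M)
    refine hu.mul_right_cancel ?_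
    change lam _ * algebraMap A L g = z * algebraMap A L g
    rw [← AlgHom.commutes lam g, ← map_mul, mul_assoc,
      mul_comm (IsLocalization.Away.invSelf g), IsLocalization.Away.mul_invSelf, mul_one, AlgHom.commutes, AlgHom.commutes,
      map_mul, ← hnum, mul_assoc, ← map_mul]
    congr 2
    simp only [g]
    rw [← Finset.mul_prod_erase G (fun x => (d x : A)) hz]
    ring
  letI : Algebra R L := lam.toRingHom.toAlgebra
  haveI : IsScalarTower A R L := IsScalarTower.of_algebraMap_eq fun a => (lam.commutes a).symm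
  let ψ : A₀ →ₐ[A] R := (AlgEquiv.ofInjective lam hinj).symm.toAlgHom.comp (Subalgebra.inclusion hrange)
  letI : Algebra A₀ R := ψ.toRingHom.toAlgebra
  haveI : IsScalarTower A₀ R L := IsScalarTower.of_algebraMap_eq fun z => by
    change (z : L) = lam (ψ z)
    exact (congrArg Subtype.val ((AlgEquiv.ofInjective lam hinj).apply_symm_apply (Subalgebra.inclusion hrange z))).symm
  haveI := hsm
  let C := R ⊗[A₀] B₀
  let e' : (L ⊗[R] C) ≃ₐ[L] B := (Algebra.TensorProduct.cancelBaseChange A₀ R L L B₀).trans e.symm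
  letI : Algebra C B := (e'.toAlgHom.toRingHom.comp (Algebra.TensorProduct.includeRight (R := R) (A := L) (B := C)).toRingHom).toAlgebra
  letI : Algebra R B := ((algebraMap L B).comp (algebraMap R L)).toAlgebra
  haveI : IsScalarTower R L B := IsScalarTower.of_algebraMap_eq fun _ => rfl
  haveI : IsScalarTower R C B := IsScalarTower.of_algebraMap_eq (R := R) (S := C) (A := B) fun r => by
    change algebraMap L B (algebraMap R L r) = e' ((1 : L) ⊗ₜ[R] algebraMap R C r)
    rw [Algebra.algebraMap_eq_smul_one (A := C), TensorProduct.tmul_smul, TensorProduct.smul_tmul',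
      ← Algebra.algebraMap_eq_smul_one]
    exact (e'.commutes (algebraMap R L r)).symm
  refine ⟨g, hg, inferInstance, inferInstance, C, inferInstance, inferInstance, inferInstance, inferInstance,
    inferInstance, inferInstance, inferInstance, ?_⟩
  exact ⟨IsBaseChange.of_equiv e'.toLinearEquiv fun c => rfl⟩

/-- An affine scheme smooth over `Spec O_{S,s}` spreads to a scheme smooth over a neighbourhood. -/
theorem exists_smooth_model {S : Scheme.{u}} [IsLocallyNoetherian S] (s : S) {W : Scheme.{u}} [IsAffine W]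
    (p : W ⟶ Spec (S.presheaf.stalk s)) [Smooth p] :
    ∃ (Y : Scheme.{u}) (f : Y ⟶ S) (a : W ⟶ Y) (V : S.Opens), Smooth f ∧ IsAffine Y ∧ IsAffineOpen V ∧ s ∈ V ∧
      Set.range f ⊆ V ∧ IsPullback a p f (S.fromSpecStalk s) := by
  obtain ⟨V, hV, hsV, -⟩ := exists_isAffineOpen_mem_and_subset (X := S) (U := ⊤) (x := s) trivial
  haveI : IsNoetherianRing Γ(S, V) := IsLocallyNoetherian.component_noetherian ⟨V, hV⟩
  letI : Algebra Γ(S, V) (S.presheaf.stalk s) := (S.presheaf.germ V s hsV).hom.toAlgebra
  haveI : IsLocalization.AtPrime (S.presheaf.stalk s) (hV.primeIdealOf ⟨s, hsV⟩).asIdeal := hV.isLocalization_stalk ⟨s, hsV⟩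
  obtain ⟨φ, hφ⟩ : ∃ φ : S.presheaf.stalk s ⟶ Γ(W, ⊤), Spec.map φ = W.isoSpec.inv ≫ p := ⟨_, Spec.map_preimage _⟩
  have hφs : φ.hom.Smooth := by
    haveI : Smooth (Spec.map φ) := hφ ▸ inferInstance
    exact (HasRingHomProperty.Spec_iff (P := @Smooth)).mp inferInstance
  letI : Algebra (S.presheaf.stalk s) Γ(W, ⊤) := φ.hom.toAlgebra
  haveI : Algebra.Smooth (S.presheaf.stalk s) Γ(W, ⊤) := hφs
  obtain ⟨g, hg, _, _, C, _, _, _, _, _, _, hC, hpush⟩ := exists_smooth_away (A := Γ(S, V))
    (L := S.presheaf.stalk s) (B := Γ(W, ⊤)) (hV.primeIdealOf ⟨s, hsV⟩).asIdeal.primeCompl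
  let R := Localization.Away g
  let i : Spec (CommRingCat.of R) ⟶ S := Spec.map (CommRingCat.ofHom (algebraMap Γ(S, V) R)) ≫ hV.fromSpec
  haveI : IsOpenImmersion (Spec.map (CommRingCat.ofHom (algebraMap Γ(S, V) R))) :=
    IsOpenImmersion.of_isLocalization g
  have hsm : Smooth (Spec.map (CommRingCat.ofHom (algebraMap R C))) :=
    (HasRingHomProperty.Spec_iff (P := @Smooth)).mpr (RingHom.smooth_algebraMap.mpr hC)
  haveI := hsm
  have hfac : Spec.map (CommRingCat.ofHom (algebraMap R (S.presheaf.stalk s))) ≫ i = S.fromSpecStalk s := by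
    rw [← hV.fromSpecStalk_eq_fromSpecStalk hsV]
    simp only [i, IsAffineOpen.fromSpecStalk, ← Category.assoc, ← Spec.map_comp]
    congr 2
    ext z
    exact (IsScalarTower.algebraMap_apply Γ(S, V) R (S.presheaf.stalk s) z).symm
  have hpb := isPullback_SpecMap_of_isPushout _ _ _ _
    ((CommRingCat.isPushout_of_isPushout R (S.presheaf.stalk s) C Γ(W, ⊤)).flip)
  refine ⟨Spec (CommRingCat.of C), Spec.map (CommRingCat.ofHom (algebraMap R C)) ≫ i,
    W.isoSpec.hom ≫ Spec.map (CommRingCat.ofHom (algebraMap C Γ(W, ⊤))), V, inferInstance, inferInstance, hV, hsV, ?_, ?_⟩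
  · rintro _ ⟨x, rfl⟩
    have h : ∀ y, hV.fromSpec y ∈ V := fun y => hV.range_fromSpec.le ⟨y, rfl⟩
    simp only [i, Scheme.Hom.comp_apply]
    exact h _
  · have hp : W.isoSpec.hom ≫ Spec.map (CommRingCat.ofHom (algebraMap (S.presheaf.stalk s) Γ(W, ⊤))) = p := by
      change W.isoSpec.hom ≫ Spec.map φ = p
      rw [hφ, Iso.hom_inv_id_assoc]
    have h2 : IsPullback (W.isoSpec.hom ≫ Spec.map (CommRingCat.ofHom (algebraMap C Γ(W, ⊤)))) p
        (Spec.map (CommRingCat.ofHom (algebraMap R C))) (Spec.map (CommRingCat.ofHom (algebraMap R (S.presheaf.stalk s)))) :=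
      hpb.of_iso W.isoSpec.symm (Iso.refl _) (Iso.refl _) (Iso.refl _) (by simp) (by rw [← hp]; simp) (by simp) (by simp; rfl)
    rw [← hfac]
    have hk : IsPullback (Spec.map (CommRingCat.ofHom (algebraMap R (S.presheaf.stalk s))))
        (𝟙 _) (𝟙 _) (Spec.map (CommRingCat.ofHom (algebraMap R (S.presheaf.stalk s)))) :=
      IsPullback.of_vert_isIso ⟨by simp⟩
    have hm : IsPullback (𝟙 (Spec (CommRingCat.of R))) (𝟙 _) i i := IsKernelPair.id_of_mono i
    have h3 := h2.paste_vert (hk.paste_horiz hm)
    convert h3 using 1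
    · rfl
    · exact (Category.comp_id p).symm

end Groth.Agent.NeronSpread
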