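import Groth.Agent.NeronSpread.Ext
import Groth.Agent.NeronSpread.Model
import Groth.Agent.EtDD.StageNear

/-!
The Néron mapping property with respect to an open passes to the local rings of the base.
-/

set_option autoImplicit false
set_option linter.style.haveILetI false
set_option linter.unusedSimpArgs false
set_option backward.isDefEq.respectTransparency false
set_option backward.isDefEq.respectTransparency.types false
set_option maxHeartbeats 1000000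

universe u

open CategoryTheory CategoryTheory.Limits AlgebraicGeometry
open Groth.Agent.EtDD Groth.Agent.W7Hull

namespace Groth.Agent.NeronSpread

variable {S : Scheme.{u}} [IsLocallyNoetherian S] (U : S.Opens) {N : Scheme.{u}} (n : N ⟶ S) (s : S)

theorem isNoetherian_of_isAffine {Y : Scheme.{u}} (f : Y ⟶ S) [Smooth f] [IsAffine Y] : IsNoetherian Y :=
  haveI := LocallyOfFiniteType.isLocallyNoetherian f
  {}

theorem isNoetherian_opens {Y : Scheme.{u}} [IsNoetherian Y] (O : Y.Opens) : IsNoetherian O.toScheme :=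
  haveI : CompactSpace O.toScheme := isCompact_iff_compactSpace.mp (TopologicalSpace.NoetherianSpace.isCompact (O : Set Y))
  haveI := LocallyOfFiniteType.isLocallyNoetherian O.ι
  {}

omit [IsLocallyNoetherian S] in
theorem range_comp {P T T' : Scheme.{u}} {f : P ⟶ S} (g : T' ⟶ T) {t : T ⟶ P} {V : Set S}
    (h : Set.range (t ≫ f) ⊆ V) : Set.range ((g ≫ t) ≫ f) ⊆ V := by
  rintro _ ⟨x, rfl⟩
  rw [Category.assoc, Scheme.Hom.comp_apply]
  exact h ⟨_, rfl⟩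

omit [IsLocallyNoetherian S] in
theorem comp_ev {P T T' D : Scheme.{u}} {f : P ⟶ S} (g : T' ⟶ T) {V : S.Opens} {t : T ⟶ P}
    (h : Set.range (t ≫ f) ⊆ V) (m : (f ⁻¹ᵁ V).toScheme ⟶ D) :
    g ≫ inPre V t h ≫ m = inPre V (g ≫ t) (range_comp g h) ≫ m := by
  rw [← Category.assoc, comp_inPre]

omit [IsLocallyNoetherian S] in
theorem ev_congr {P T D : Scheme.{u}} {f : P ⟶ S} {V : S.Opens} {t t' : T ⟶ P} (e : t = t')
    {h : Set.range (t ≫ f) ⊆ V} (h' : Set.range (t' ≫ f) ⊆ V) (m : (f ⁻¹ᵁ V).toScheme ⟶ D) :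
    inPre V t h ≫ m = inPre V t' h' ≫ m := by
  subst e; rfl

theorem goodNear_of_noetherian {P : Scheme.{u}} [IsNoetherian P] (V₀ : NearLimit.Idx s) (f : P ⟶ S) : GoodNear s V₀ f :=
  ⟨fun _ _ => TopologicalSpace.NoetherianSpace.isCompact _, inferInstance⟩

theorem uniq_stalk [LocallyOfFinitePresentation n]
    (hN : ∀ {Y : Scheme.{u}} (p : Y ⟶ S), Smooth p → Uniq (𝟙 S) U.ι n p)
    (W : Scheme.{u}) [IsAffine W] (p : W ⟶ Spec (S.presheaf.stalk s)) (hp : Smooth p) :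
    Uniq (S.fromSpecStalk s) ((S.fromSpecStalk s) ⁻¹ᵁ U).ι n p := by
  intro g₁ g₂ h₁ h₂ h
  haveI := hp
  obtain ⟨Y, f, a, V, hf, hY, hV, hsV, -, hW⟩ := exists_smooth_model s p
  haveI := hf; haveI := hY
  haveI := isNoetherian_of_isAffine f
  let V₀ : NearLimit.Idx s := ⟨V, hV, hsV⟩
  let e := hW.isoPullback
  have hgood : GoodNear s V₀ f := goodNear_of_noetherian s V₀ f
  have hev : ∀ (g : W ⟶ N), g ≫ n = p ≫ S.fromSpecStalk s → (e.inv ≫ g) ≫ n = pullback.fst f _ ≫ f := by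
    intro g hg
    rw [Category.assoc, hg, IsPullback.isoPullback_inv_snd_assoc, pullback.condition]
  obtain ⟨V₁, hV₁, m₁, hm₁, hm₁'⟩ := exists_stage_hom hgood f n (e.inv ≫ g₁) (hev g₁ h₁)
  obtain ⟨V₂, hV₂, m₂, hm₂, hm₂'⟩ := exists_stage_hom hgood f n (e.inv ≫ g₂) (hev g₂ h₂)
  obtain ⟨V₃, hV₃⟩ := NearLimit.exists_idx_le s (V₁.1 ⊓ V₂.1) ⟨V₁.2.2, V₂.2.2⟩
  let P : Scheme.{u} := (f ⁻¹ᵁ U).toScheme
  let f' : P ⟶ S := (f ⁻¹ᵁ U).ι ≫ f
  haveI : IsNoetherian P := isNoetherian_opens _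
  have hgood' : GoodNear s V₀ f' := goodNear_of_noetherian s V₀ f'
  let t₀ := (f' ⁻¹ᵁ V₃.1).ι ≫ (f ⁻¹ᵁ U).ι
  have ht₀ : Set.range (t₀ ≫ f) ⊆ V₃.1 := by
    rw [Category.assoc]
    exact range_ι_comp f' V₃.1
  have hl₁ : Set.range (t₀ ≫ f) ⊆ V₁.1 := range_mono (hV₃.trans inf_le_left) ht₀
  have hl₂ : Set.range (t₀ ≫ f) ⊆ V₂.1 := range_mono (hV₃.trans inf_le_right) ht₀
  obtain ⟨V₄, hV₄, hV₄'⟩ := exists_stage_eq hgood' (V := V₃) ((hV₃.trans inf_le_left).trans hV₁) f' n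
    (inPre V₁.1 t₀ hl₁ ≫ m₁) (inPre V₂.1 t₀ hl₂ ≫ m₂)
    (by rw [Category.assoc, hm₁, inPre_ι_assoc, Category.assoc])
    (by rw [Category.assoc, hm₂, inPre_ι_assoc, Category.assoc]) (by
    intro T t σ e'
    have ht : (t ≫ (f ⁻¹ᵁ U).ι) ≫ f = σ ≫ S.fromSpecStalk s := by rw [Category.assoc]; exact e'
    have hσU : Set.range σ ⊆ Set.range ((S.fromSpecStalk s) ⁻¹ᵁ U).ι := by
      rw [Scheme.Opens.range_ι]
      rintro _ ⟨x, rfl⟩
      change (σ ≫ S.fromSpecStalk s) x ∈ U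
      rw [← ht, Category.assoc, Scheme.Hom.comp_apply, Scheme.Hom.comp_apply]
      exact (t x).2
    let w : T ⟶ W := pullback.lift (t ≫ (f ⁻¹ᵁ U).ι) σ ht ≫ e.inv
    have hwp : w ≫ p = σ := by
      simp only [w, Category.assoc, e, IsPullback.isoPullback_inv_snd, pullback.lift_snd]
    let κ : T ⟶ pullback p ((S.fromSpecStalk s) ⁻¹ᵁ U).ι :=
      pullback.lift w (IsOpenImmersion.lift _ σ hσU) (by rw [IsOpenImmersion.lift_fac, hwp])
    have key : w ≫ g₁ = w ≫ g₂ := by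
      have := congrArg (κ ≫ ·) h
      simpa [κ, pullback.lift_fst_assoc] using this
    have e₀ : inPre V₃.1 t (range_comp_fromSpecStalk_subset e' V₃) ≫ t₀ = t ≫ (f ⁻¹ᵁ U).ι := by
      simp only [t₀, inPre_ι_assoc]
    rw [comp_ev, comp_ev, ev_congr e₀ (range_comp_fromSpecStalk_subset ht V₁) m₁,
      ev_congr e₀ (range_comp_fromSpecStalk_subset ht V₂) m₂,
      hm₁' (t ≫ (f ⁻¹ᵁ U).ι) σ ht, hm₂' (t ≫ (f ⁻¹ᵁ U).ι) σ ht]
    simpa [w] using key)
  let Y₄ : Scheme.{u} := (f ⁻¹ᵁ V₄.1).toScheme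
  let t₄ : Y₄ ⟶ Y := (f ⁻¹ᵁ V₄.1).ι
  have hr : ∀ V' : NearLimit.Idx s, V₄.1 ≤ V'.1 → Set.range (t₄ ≫ f) ⊆ V'.1 :=
    fun V' hle => range_mono hle (range_ι_comp f V₄.1)
  have h4₁ : V₄.1 ≤ V₁.1 := hV₄.trans (hV₃.trans inf_le_left)
  have h4₂ : V₄.1 ≤ V₂.1 := hV₄.trans (hV₃.trans inf_le_right)
  have heq : inPre V₁.1 t₄ (hr V₁ h4₁) ≫ m₁ = inPre V₂.1 t₄ (hr V₂ h4₂) ≫ m₂ := by
    refine hN (t₄ ≫ f) inferInstance _ _ ?_ ?_ ?_
    · rw [Category.assoc, hm₁, inPre_ι_assoc, Category.comp_id]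
    · rw [Category.assoc, hm₂, inPre_ι_assoc, Category.comp_id]
    · let T := pullback (t₄ ≫ f) U.ι
      have hTU : Set.range (pullback.fst (t₄ ≫ f) U.ι ≫ t₄) ⊆ Set.range (f ⁻¹ᵁ U).ι := by
        rw [Scheme.Opens.range_ι]
        rintro _ ⟨x, rfl⟩
        change ((pullback.fst (t₄ ≫ f) U.ι ≫ t₄) ≫ f) x ∈ U
        rw [Category.assoc, pullback.condition, Scheme.Hom.comp_apply]
        exact (pullback.snd (t₄ ≫ f) U.ι x).2
      let t : T ⟶ P := IsOpenImmersion.lift (f ⁻¹ᵁ U).ι (pullback.fst _ _ ≫ t₄) hTU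
      have htι : t ≫ (f ⁻¹ᵁ U).ι = pullback.fst _ _ ≫ t₄ := IsOpenImmersion.lift_fac _ _ _
      have htr : Set.range (t ≫ f') ⊆ V₄.1 := by
        simp only [f']
        rw [← Category.assoc, htι, Category.assoc]
        rintro _ ⟨x, rfl⟩
        rw [Scheme.Hom.comp_apply]
        exact range_ι_comp f V₄.1 ⟨_, rfl⟩
      have := hV₄' t htr
      have e₀ : inPre V₃.1 t (range_mono hV₄ htr) ≫ t₀ = pullback.fst (t₄ ≫ f) U.ι ≫ t₄ := by
        simp only [t₀, inPre_ι_assoc, htι]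
      rw [comp_ev, comp_ev, ev_congr e₀ (range_comp _ (hr V₁ h4₁)) m₁, ev_congr e₀ (range_comp _ (hr V₂ h4₂)) m₂] at this
      rw [comp_ev, comp_ev]
      exact this
  have ha : a ≫ f = p ≫ S.fromSpecStalk s := hW.w
  have hlift : pullback.lift a p ha ≫ e.inv = 𝟙 W := by
    rw [← cancel_mono e.hom, Category.assoc, Iso.inv_hom_id, Category.comp_id, Category.id_comp]
    apply pullback.hom_ext <;> simp [e]
  let α := inPre V₄.1 a (range_comp_fromSpecStalk_subset ha V₄)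
  have hα₁ : α ≫ inPre V₁.1 t₄ (hr V₁ h4₁) = inPre V₁.1 a (range_comp_fromSpecStalk_subset ha V₁) := by
    rw [← cancel_mono (f ⁻¹ᵁ V₁.1).ι]; simp [α, t₄]
  have hα₂ : α ≫ inPre V₂.1 t₄ (hr V₂ h4₂) = inPre V₂.1 a (range_comp_fromSpecStalk_subset ha V₂) := by
    rw [← cancel_mono (f ⁻¹ᵁ V₂.1).ι]; simp [α, t₄]
  have := congrArg (α ≫ ·) heq
  simp only [reassoc_of% hα₁, reassoc_of% hα₂, hm₁' a p ha, hm₂' a p ha, reassoc_of% hlift] at this
  exact this

theorem extn_stalk [LocallyOfFinitePresentation n]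
    (hN : ∀ {Y : Scheme.{u}} (p : Y ⟶ S), Smooth p → Extn (𝟙 S) U.ι n p)
    (W : Scheme.{u}) [IsAffine W] (p : W ⟶ Spec (S.presheaf.stalk s)) (hp : Smooth p) :
    Extn (S.fromSpecStalk s) ((S.fromSpecStalk s) ⁻¹ᵁ U).ι n p := by
  intro m hm
  haveI := hp
  obtain ⟨Y, f, a, V, hf, hY, hV, hsV, -, hW⟩ := exists_smooth_model s p
  haveI := hf; haveI := hY
  haveI := isNoetherian_of_isAffine f
  let V₀ : NearLimit.Idx s := ⟨V, hV, hsV⟩
  let P : Scheme.{u} := (f ⁻¹ᵁ U).toScheme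
  let f' : P ⟶ S := (f ⁻¹ᵁ U).ι ≫ f
  haveI : IsNoetherian P := isNoetherian_opens _
  have hgood' : GoodNear s V₀ f' := goodNear_of_noetherian s V₀ f'
  let e := hW.isoPullback
  let Q := pullback f' (S.fromSpecStalk s)
  let χ₀ : Q ⟶ W := pullback.lift (pullback.fst _ _ ≫ (f ⁻¹ᵁ U).ι) (pullback.snd _ _)
    (by rw [Category.assoc, ← pullback.condition]) ≫ e.inv
  have hsndU : Set.range (pullback.snd f' (S.fromSpecStalk s)) ⊆ Set.range ((S.fromSpecStalk s) ⁻¹ᵁ U).ι := by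
    rw [Scheme.Opens.range_ι]
    rintro _ ⟨x, rfl⟩
    change (pullback.snd f' (S.fromSpecStalk s) ≫ S.fromSpecStalk s) x ∈ U
    rw [← pullback.condition]
    simp only [f', Scheme.Hom.comp_apply]
    exact (pullback.fst f' (S.fromSpecStalk s) x).2
  have hχp : χ₀ ≫ p = pullback.snd f' (S.fromSpecStalk s) := by simp [χ₀, e]
  let χ : Q ⟶ pullback p ((S.fromSpecStalk s) ⁻¹ᵁ U).ι :=
    pullback.lift χ₀ (IsOpenImmersion.lift _ _ hsndU) (by rw [IsOpenImmersion.lift_fac, hχp])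
  obtain ⟨V₁, hV₁, m', hm', hm''⟩ := exists_stage_hom hgood' f' n (χ ≫ m) (by
    rw [Category.assoc, hm, pullback.lift_fst_assoc, reassoc_of% hχp, pullback.condition])
  let t₁ : (f ⁻¹ᵁ V₁.1).toScheme ⟶ Y := (f ⁻¹ᵁ V₁.1).ι
  let T := pullback (t₁ ≫ f) U.ι
  have hTU : Set.range (pullback.fst (t₁ ≫ f) U.ι ≫ t₁) ⊆ Set.range (f ⁻¹ᵁ U).ι := by
    rw [Scheme.Opens.range_ι]
    rintro _ ⟨x, rfl⟩
    change ((pullback.fst (t₁ ≫ f) U.ι ≫ t₁) ≫ f) x ∈ U
    rw [Category.assoc, pullback.condition, Scheme.Hom.comp_apply]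
    exact (pullback.snd (t₁ ≫ f) U.ι x).2
  let t : T ⟶ P := IsOpenImmersion.lift (f ⁻¹ᵁ U).ι (pullback.fst _ _ ≫ t₁) hTU
  have htι : t ≫ (f ⁻¹ᵁ U).ι = pullback.fst _ _ ≫ t₁ := IsOpenImmersion.lift_fac _ _ _
  have htr : Set.range (t ≫ f') ⊆ V₁.1 := by
    simp only [f']
    rw [← Category.assoc, htι, Category.assoc]
    rintro _ ⟨x, rfl⟩
    rw [Scheme.Hom.comp_apply]
    exact range_ι_comp f V₁.1 ⟨_, rfl⟩
  obtain ⟨g, hg, hgm⟩ := hN (t₁ ≫ f) inferInstance (inPre V₁.1 t htr ≫ m') (by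
    rw [Category.assoc, hm', inPre_ι_assoc, Category.comp_id]
    simp only [f']
    rw [reassoc_of% htι])
  have ha : a ≫ f = p ≫ S.fromSpecStalk s := hW.w
  refine ⟨inPre V₁.1 a (range_comp_fromSpecStalk_subset ha V₁) ≫ g, ?_, ?_⟩
  · rw [Category.assoc, hg, Category.comp_id, inPre_ι_assoc, ha]
  · let J := ((S.fromSpecStalk s) ⁻¹ᵁ U).ι
    let u : ((S.fromSpecStalk s) ⁻¹ᵁ U).toScheme ⟶ U.toScheme := IsOpenImmersion.lift U.ι (J ≫ S.fromSpecStalk s) (by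
      rw [Scheme.Opens.range_ι]
      rintro _ ⟨x, rfl⟩
      rw [Scheme.Hom.comp_apply]
      exact x.2)
    let κ : pullback p J ⟶ T := pullback.lift (pullback.fst p J ≫ inPre V₁.1 a (range_comp_fromSpecStalk_subset ha V₁))
      (pullback.snd p J ≫ u) (by
        simp only [Category.assoc, t₁, inPre_ι_assoc, u, IsOpenImmersion.lift_fac, ha]
        rw [pullback.condition_assoc])
    have hκf : (κ ≫ t) ≫ f' = (pullback.snd p J ≫ J) ≫ S.fromSpecStalk s := by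
      simp only [f', Category.assoc, reassoc_of% htι, κ, pullback.lift_fst_assoc, t₁, inPre_ι_assoc, ha]
      rw [pullback.condition_assoc]
    have h1 : κ ≫ inPre V₁.1 t htr ≫ m' = pullback.lift (κ ≫ t) (pullback.snd p J ≫ J) hκf ≫ χ ≫ m := by
      rw [← hm'' (κ ≫ t) _ hκf, ← Category.assoc, comp_inPre]
    have h2 : pullback.lift (κ ≫ t) (pullback.snd p J ≫ J) hκf ≫ χ = 𝟙 _ := by
      apply pullback.hom_ext
      · rw [Category.id_comp, Category.assoc, pullback.lift_fst, ← cancel_mono e.hom]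
        apply pullback.hom_ext
        · simp only [χ₀, Category.assoc, Iso.inv_hom_id, Category.comp_id, pullback.lift_fst, pullback.lift_fst_assoc,
            e, IsPullback.isoPullback_hom_fst, htι, κ, t₁, inPre_ι, J]
        · simp only [χ₀, Category.assoc, Iso.inv_hom_id, Category.comp_id, pullback.lift_snd,
            e, IsPullback.isoPullback_hom_snd]
          exact pullback.condition.symm
      · rw [Category.id_comp, Category.assoc, pullback.lift_snd, ← cancel_mono ((S.fromSpecStalk s) ⁻¹ᵁ U).ι,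
          Category.assoc, IsOpenImmersion.lift_fac, pullback.lift_snd]
    rw [reassoc_of% h2, ← hgm, ← Category.assoc κ, pullback.lift_fst, Category.assoc] at h1
    exact h1

end Groth.Agent.NeronSpread
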