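import Groth.Agent.NeronSpread.Ext
import Groth.Agent.NeronSpread.Stalk
import Groth.Agent.EtDD.StageNear

/-!
The Néron mapping property over a one-dimensional base can be checked at the closed points.
-/

set_option autoImplicit false
set_option linter.style.haveILetI false
set_option linter.unusedSimpArgs false
set_option backward.isDefEq.respectTransparency false
set_option backward.isDefEq.respectTransparency.types false
set_option maxHeartbeats 1000000

universe u

open CategoryTheory CategoryTheory.Limits AlgebraicGeometry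
open Groth.Agent.EtDD Groth.Agent.W7Hull

namespace Groth.Agent.NeronSpread

variable {S : Scheme.{u}} [IsIntegral S]

theorem eq_genericPoint_of_not_isClosed (hdim : topologicalKrullDim S = 1) (x : S)
    (hx : ¬ IsClosed ({x} : Set S)) : x = genericPoint S := by
  by_contra hne
  obtain ⟨y, hy, hyx⟩ : ∃ y ∈ closure ({x} : Set S), y ≠ x := by
    by_contra h
    push Not at h
    exact hx (closure_eq_iff_isClosed.mp (Set.Subset.antisymm (fun y hy => h y hy) subset_closure))
  let c : S → TopologicalSpace.IrreducibleCloseds S := fun z =>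
    ⟨closure {z}, isIrreducible_singleton.closure, isClosed_closure⟩
  have hlt : ∀ {a b : S}, a ∈ closure ({b} : Set S) → a ≠ b → c a < c b := by
    intro a b hab hne'
    refine lt_of_le_of_ne (show (c a : Set S) ⊆ c b from closure_minimal (Set.singleton_subset_iff.mpr hab) isClosed_closure) fun h => hne' ?_
    have h1 : closure ({a} : Set S) = closure {b} := congrArg (fun z : TopologicalSpace.IrreducibleCloseds S => (z : Set S)) h
    exact (inseparable_iff_closure_eq.mpr h1).eq
  have hxη : x ∈ closure ({genericPoint S} : Set S) :=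
    specializes_iff_mem_closure.mp ((genericPoint_spec S).specializes trivial)
  let l : LTSeries (TopologicalSpace.IrreducibleCloseds S) :=
    ((RelSeries.singleton _ (c y)).snoc (c x) (hlt hy hyx)).snoc (c (genericPoint S)) (by simpa using hlt hxη hne)
  have := Order.LTSeries.length_le_krullDim l
  rw [show topologicalKrullDim S = Order.krullDim (TopologicalSpace.IrreducibleCloseds S) from rfl] at hdim
  rw [hdim] at this
  simp [l] at this

variable [AlgebraicGeometry.IsNoetherian S] {N : Scheme.{u}} (n : N ⟶ S)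

/-- The generic point of `Spec O_{S,s}`. -/
noncomputable abbrev genMap (s : S) : Spec (S.presheaf.stalk (genericPoint S)) ⟶ Spec (S.presheaf.stalk s) :=
  Spec.map (S.presheaf.stalkSpecializes ((genericPoint_spec S).specializes trivial))

omit [AlgebraicGeometry.IsNoetherian S] in
theorem genMap_fromSpecStalk (s : S) : genMap s ≫ S.fromSpecStalk s = S.fromSpecStalk (genericPoint S) :=
  Scheme.SpecMap_stalkSpecializes_fromSpecStalk _

theorem uniq_dedekind [LocallyOfFiniteType n] (hdim : topologicalKrullDim S = 1)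
    (hloc : ∀ s : S, IsClosed ({s} : Set S) → ∀ {K : Scheme.{u}} (q : K ⟶ Spec (S.presheaf.stalk s)), Smooth q →
      Uniq (S.fromSpecStalk s) (genMap s) n q)
    (Y : Scheme.{u}) [IsAffine Y] (p : Y ⟶ S) (hp : Smooth p) :
    Uniq (𝟙 S) (S.fromSpecStalk (genericPoint S)) n p := by
  intro g₁ g₂ h₁ h₂ h
  haveI := hp
  haveI := isNoetherian_of_isAffine p
  rw [Category.comp_id] at h₁ h₂
  have hW : ∀ s : S, ∃ W : S.Opens, s ∈ W ∧ (p ⁻¹ᵁ W).ι ≫ g₁ = (p ⁻¹ᵁ W).ι ≫ g₂ := fun s => by
    obtain ⟨V₀, -⟩ := NearLimit.exists_idx_le s ⊤ trivial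
    obtain ⟨W, hW, hW'⟩ := exists_stage_eq (goodNear_of_noetherian s V₀ p) (V := V₀) le_rfl p n
      ((p ⁻¹ᵁ V₀.1).ι ≫ g₁) ((p ⁻¹ᵁ V₀.1).ι ≫ g₂) (by rw [Category.assoc, h₁]) (by rw [Category.assoc, h₂])
      (fun T t σ e => by
        simp only [inPre_ι_assoc]
        by_cases hs : IsClosed ({s} : Set S)
        · let K := pullback p (S.fromSpecStalk s)
          have hK : pullback.fst p (S.fromSpecStalk s) ≫ g₁ = pullback.fst p (S.fromSpecStalk s) ≫ g₂ := by
            refine hloc s hs (pullback.snd p (S.fromSpecStalk s)) inferInstance _ _ ?_ ?_ ?_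
            · rw [Category.assoc, h₁, pullback.condition]
            · rw [Category.assoc, h₂, pullback.condition]
            · let l : pullback (pullback.snd p (S.fromSpecStalk s)) (genMap s) ⟶
                  pullback p (S.fromSpecStalk (genericPoint S)) :=
                pullback.lift (pullback.fst _ _ ≫ pullback.fst _ _) (pullback.snd _ _) (by
                  rw [Category.assoc, pullback.condition, pullback.condition_assoc, genMap_fromSpecStalk])
              have := congrArg (l ≫ ·) h
              simpa [l] using this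
          have := congrArg (pullback.lift t σ e ≫ ·) hK
          simpa using this
        · obtain rfl := eq_genericPoint_of_not_isClosed hdim s hs
          have := congrArg (pullback.lift t σ e ≫ ·) h
          simpa using this)
    refine ⟨W.1, W.2.2, ?_⟩
    have := hW' (p ⁻¹ᵁ W.1).ι (range_ι_comp p W.1)
    simpa using this
  choose W hsW hW using hW
  have hcov : TopologicalSpace.IsOpenCover fun s => p ⁻¹ᵁ W s :=
    TopologicalSpace.Opens.ext (Set.eq_univ_of_forall fun y => by
      simp only [TopologicalSpace.Opens.coe_iSup, Set.mem_iUnion]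
      exact ⟨p y, hsW (p y)⟩)
  exact Scheme.Cover.hom_ext (Y.openCoverOfIsOpenCover _ hcov) _ _ fun s => hW s

theorem extn_dedekind [LocallyOfFinitePresentation n] (hdim : topologicalKrullDim S = 1)
    (hu : ∀ {Z : Scheme.{u}} (q : Z ⟶ S), Smooth q → Uniq (𝟙 S) (S.fromSpecStalk (genericPoint S)) n q)
    (hloc : ∀ s : S, IsClosed ({s} : Set S) → ∀ {K : Scheme.{u}} (q : K ⟶ Spec (S.presheaf.stalk s)), Smooth q →
      Extn (S.fromSpecStalk s) (genMap s) n q)
    (Y : Scheme.{u}) [IsAffine Y] (p : Y ⟶ S) (hp : Smooth p) :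
    Extn (𝟙 S) (S.fromSpecStalk (genericPoint S)) n p := by
  intro m hm
  haveI := hp
  haveI := isNoetherian_of_isAffine p
  rw [Category.comp_id] at hm
  have hV : ∀ s : S, ∃ (V : NearLimit.Idx s) (g : (p ⁻¹ᵁ V.1).toScheme ⟶ N), g ≫ n = (p ⁻¹ᵁ V.1).ι ≫ p ∧
      ∀ ⦃T : Scheme.{u}⦄ (t : T ⟶ Y) (τ : T ⟶ Spec (S.presheaf.stalk (genericPoint S)))
        (e : t ≫ p = τ ≫ S.fromSpecStalk (genericPoint S)) (h : Set.range (t ≫ p) ⊆ V.1),
        inPre V.1 t h ≫ g = pullback.lift t τ e ≫ m := fun s => by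
    obtain ⟨V₀, -⟩ := NearLimit.exists_idx_le s ⊤ trivial
    by_cases hs : IsClosed ({s} : Set S)
    · let q := pullback.snd p (S.fromSpecStalk s)
      let l : pullback q (genMap s) ⟶ pullback p (S.fromSpecStalk (genericPoint S)) :=
        pullback.lift (pullback.fst _ _ ≫ pullback.fst _ _) (pullback.snd _ _) (by
          rw [Category.assoc, pullback.condition, pullback.condition_assoc, genMap_fromSpecStalk])
      obtain ⟨G, hG, hGm⟩ := hloc s hs q inferInstance (l ≫ m) (by
        rw [Category.assoc, hm, pullback.lift_fst_assoc, Category.assoc, pullback.condition])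
      obtain ⟨V, -, g, hg, hg'⟩ := exists_stage_hom (goodNear_of_noetherian s V₀ p) p n G (by rw [hG, pullback.condition])
      refine ⟨V, g, hg, fun T t τ e h => ?_⟩
      have e' : t ≫ p = (τ ≫ genMap s) ≫ S.fromSpecStalk s := by rw [Category.assoc, genMap_fromSpecStalk, e]
      rw [hg' t (τ ≫ genMap s) e']
      let r : T ⟶ pullback q (genMap s) := pullback.lift (pullback.lift t _ e') τ (pullback.lift_snd _ _ _)
      have h1 : r ≫ pullback.fst _ _ = pullback.lift t _ e' := pullback.lift_fst _ _ _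
      have h2 : r ≫ l = pullback.lift t τ e := by
        apply pullback.hom_ext <;> simp [r, l]
      rw [← h1, Category.assoc, hGm, reassoc_of% h2]
    · obtain rfl := eq_genericPoint_of_not_isClosed hdim s hs
      obtain ⟨V, -, g, hg, hg'⟩ := exists_stage_hom (goodNear_of_noetherian (genericPoint S) V₀ p) p n m hm
      exact ⟨V, g, hg, fun T t τ e h => hg' t τ e⟩
  choose V g hg hg' using hV
  have hcov : TopologicalSpace.IsOpenCover fun s => p ⁻¹ᵁ (V s).1 :=
    TopologicalSpace.Opens.ext (Set.eq_univ_of_forall fun y => by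
      simp only [TopologicalSpace.Opens.coe_iSup, Set.mem_iUnion]
      exact ⟨p y, (V (p y)).2.2⟩)
  let 𝒰 := Y.openCoverOfIsOpenCover _ hcov
  have hglue : ∀ s s', pullback.fst (𝒰.f s) (𝒰.f s') ≫ g s = pullback.snd (𝒰.f s) (𝒰.f s') ≫ g s' := by
    intro s s'
    haveI : IsOpenImmersion (pullback.fst (𝒰.f s) (𝒰.f s')) := inferInstance
    let q := pullback.fst (𝒰.f s) (𝒰.f s') ≫ 𝒰.f s ≫ p
    refine hu q inferInstance _ _ ?_ ?_ ?_
    · rw [Category.assoc, hg, Category.comp_id]; rfl
    · rw [Category.assoc, hg, Category.comp_id]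
      exact (congrArg (· ≫ p) (pullback.condition (f := 𝒰.f s) (g := 𝒰.f s'))).symm.trans (by simp [q])
    · let τ := pullback.snd q (S.fromSpecStalk (genericPoint S))
      let t := pullback.fst q (S.fromSpecStalk (genericPoint S)) ≫ pullback.fst (𝒰.f s) (𝒰.f s') ≫ 𝒰.f s
      have e : t ≫ p = τ ≫ S.fromSpecStalk (genericPoint S) := by
        simp only [t, τ, Category.assoc]
        exact pullback.condition
      have hin : ∀ (s : S) {T : Scheme.{u}} (x : T ⟶ (p ⁻¹ᵁ (V s).1).toScheme),
          Set.range ((x ≫ (p ⁻¹ᵁ (V s).1).ι) ≫ p) ⊆ (V s).1 := by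
        intro s T x
        rintro _ ⟨z, rfl⟩
        rw [Category.assoc, Scheme.Hom.comp_apply]
        exact range_ι_comp p (V s).1 ⟨_, rfl⟩
      have hid : ∀ (s : S) {T : Scheme.{u}} (x : T ⟶ (p ⁻¹ᵁ (V s).1).toScheme),
          inPre (V s).1 (x ≫ (p ⁻¹ᵁ (V s).1).ι) (hin s x) = x := by
        intro s T x
        rw [← cancel_mono (p ⁻¹ᵁ (V s).1).ι, inPre_ι]
      let x₁ := pullback.fst q (S.fromSpecStalk (genericPoint S)) ≫ pullback.fst (𝒰.f s) (𝒰.f s')
      let x₂ := pullback.fst q (S.fromSpecStalk (genericPoint S)) ≫ pullback.snd (𝒰.f s) (𝒰.f s')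
      have t₁ : x₁ ≫ (p ⁻¹ᵁ (V s).1).ι = t := Category.assoc _ _ _
      have t₂ : x₂ ≫ (p ⁻¹ᵁ (V s').1).ι = t := by
        simp only [x₂, t, Category.assoc]
        exact congrArg (_ ≫ ·) (pullback.condition (f := 𝒰.f s) (g := 𝒰.f s')).symm
      rw [← Category.assoc, ← Category.assoc]
      change x₁ ≫ g s = x₂ ≫ g s'
      rw [← hid s x₁, ← hid s' x₂]
      exact (hg' s _ τ (by rw [t₁]; exact e) _).trans (Eq.trans (by congr 1; apply pullback.hom_ext <;> simp [t₁, t₂])
        (hg' s' _ τ (by rw [t₂]; exact e) _).symm)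
  refine ⟨𝒰.glueMorphisms g hglue, ?_, ?_⟩
  · refine Scheme.Cover.hom_ext 𝒰 _ _ fun s => ?_
    rw [𝒰.ι_glueMorphisms_assoc, Category.comp_id, hg]; rfl
  · refine Scheme.Cover.hom_ext (𝒰.pullback₁ (pullback.fst p (S.fromSpecStalk (genericPoint S)))) _ _ fun s => ?_
    let pfst := pullback.fst p (S.fromSpecStalk (genericPoint S))
    change pullback.fst pfst (𝒰.f s) ≫ pfst ≫ 𝒰.glueMorphisms g hglue = pullback.fst pfst (𝒰.f s) ≫ m
    rw [pullback.condition_assoc, 𝒰.ι_glueMorphisms]
    let x := pullback.snd pfst (𝒰.f s)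
    have hr : Set.range ((x ≫ (p ⁻¹ᵁ (V s).1).ι) ≫ p) ⊆ (V s).1 := by
      rintro _ ⟨z, rfl⟩
      rw [Category.assoc, Scheme.Hom.comp_apply]
      exact range_ι_comp p (V s).1 ⟨_, rfl⟩
    have hx : inPre (V s).1 (x ≫ (p ⁻¹ᵁ (V s).1).ι) hr = x := by rw [← cancel_mono (p ⁻¹ᵁ (V s).1).ι, inPre_ι]
    have e : (x ≫ (p ⁻¹ᵁ (V s).1).ι) ≫ p = (pullback.fst pfst (𝒰.f s) ≫ pullback.snd p _) ≫ S.fromSpecStalk (genericPoint S) := by
      rw [Category.assoc (pullback.fst pfst (𝒰.f s)), ← pullback.condition, ← Category.assoc]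
      exact congrArg (· ≫ p) (pullback.condition (f := pfst) (g := 𝒰.f s)).symm
    change x ≫ g s = _
    rw [← hx, hg' s _ _ e hr]
    congr 1
    apply pullback.hom_ext
    · rw [pullback.lift_fst]
      exact (pullback.condition (f := pfst) (g := 𝒰.f s)).symm
    · rw [pullback.lift_snd]

end Groth.Agent.NeronSpread
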